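import Groth.Agent.BlowLCI.Main
import Groth.Agent.BlowUpLib.Glue
import Groth.Prelude.Def_RegImm
import Groth.Agent.KoszulFlatLib.OfExact

/-!
# Tor independent base change of a blow-up in a Koszul regular ideal
-/

set_option autoImplicit false
set_option linter.style.haveILetI false
set_option backward.isDefEq.respectTransparency false
set_option backward.isDefEq.respectTransparency.types false

universe u

open CategoryTheory CategoryTheory.Limits AlgebraicGeometry TensorProduct

namespace Groth.Agent.BlowLCI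

open Groth.Agent Groth.Agent.WiebeLib

/-- The centre pulled back along the spectrum of a ring map under which it becomes principal. -/
theorem isEffCartier_centre_comap {A B : Type u} [CommRing A] [CommRing B] (I : Ideal A) (α : A →+* B) (c : B)
    (hc : c ∈ nonZeroDivisors B) (hI : I.map α = Ideal.span {c}) :
    BlowUp.IsEffCartierIdeal ((BlowUpLib.centre I).comap (Spec.map (CommRingCat.ofHom α))) := by
  set ε := (Scheme.ΓSpecIso (CommRingCat.of B)).inv.hom
  intro z
  refine ⟨⟨⊤, isAffineOpen_top _⟩, trivial, ε c,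
    ModPairLib.mem_nonZeroDivisors_map ε (ConcreteCategory.bijective_of_isIso _) hc, ?_⟩
  rw [ModPairLib.comap_ideal_affine, BlowUpLib.centre_top, Ideal.map_map, ← CommRingCat.hom_comp,
    ← Scheme.ΓSpecIso_inv_naturality, CommRingCat.hom_comp, ← Ideal.map_map, CommRingCat.hom_ofHom,
    ← Set.image_singleton, ← Ideal.map_span]
  rw [hI]

theorem map_eq_span {A : Type u} [CommRing A] (I : Ideal A) (a : I) (A' : Type u) [CommRing A'] [Algebra A A'] :
    I.map (algebraMap A (BlowUp.affineAlgebra A I (a : A) ⊗[A] A')) =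
      Ideal.span {algebraMap A (BlowUp.affineAlgebra A I (a : A) ⊗[A] A') (a : A)} := by
  refine le_antisymm (Ideal.map_le_iff_le_comap.2 fun x hx => ?_)
    ((Ideal.span_singleton_le_iff_mem _).2 (Ideal.mem_map_of_mem _ a.2))
  refine Ideal.mem_span_singleton'.2 ⟨BlowUpLib.frac I ⟨x, hx⟩ a ⊗ₜ 1, ?_⟩
  rw [Algebra.TensorProduct.algebraMap_apply, Algebra.TensorProduct.tmul_mul_tmul,
    BlowUpLib.frac_mul I ⟨x, hx⟩ a, one_mul, Algebra.TensorProduct.algebraMap_apply]

/-- One piece of the base change. -/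
theorem exists_piece {X X' B : Scheme.{u}} (𝓘 : X.IdealSheafData) (b : B ⟶ X) (g : X' ⟶ X) {A C A' : Type u}
    [CommRing A] [CommRing C] [CommRing A'] [Algebra A C] [Algebra A A'] (jU : Spec (CommRingCat.of A) ⟶ X)
    [IsOpenImmersion jU] (I : Ideal A) (hI : 𝓘.comap jU = BlowUpLib.centre I)
    (c : Spec (CommRingCat.of C) ⟶ B) [IsOpenImmersion c]
    (hc : c ≫ b = Spec.map (CommRingCat.ofHom (algebraMap A C)) ≫ jU)
    (jV : Spec (CommRingCat.of A') ⟶ X') [IsOpenImmersion jV]
    (hg : jV ≫ g = Spec.map (CommRingCat.ofHom (algebraMap A A')) ≫ jU)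
    (t : C ⊗[A] A') (ht : t ∈ nonZeroDivisors (C ⊗[A] A')) (hIt : I.map (algebraMap A (C ⊗[A] A')) = Ideal.span {t})
    (y : (pullback b g : Scheme.{u})) (h₁ : pullback.fst b g y ∈ Set.range c) (h₂ : pullback.snd b g y ∈ Set.range jV) :
    ∃ (W : Scheme.{u}) (m : W ⟶ pullback b g) (_ : IsOpenImmersion m),
      y ∈ Set.range m ∧ BlowUp.IsEffCartierIdeal ((𝓘.comap (pullback.snd b g ≫ g)).comap m) := by
  let P := pullback.map (Spec.map (CommRingCat.ofHom (algebraMap A C)))
    (Spec.map (CommRingCat.ofHom (algebraMap A A'))) b g c jV jU hc.symm hg.symm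
  haveI : IsOpenImmersion P := inferInstance
  refine ⟨_, (pullbackSpecIso A C A').inv ≫ P, inferInstance, ?_, ?_⟩
  · rw [Scheme.Hom.comp_base, TopCat.coe_comp, Set.range_comp, Set.range_eq_univ.2
      (pullbackSpecIso A C A').inv.surjective, Set.image_univ]
    show y ∈ Set.range P
    rw [Scheme.Pullback.range_map]
    exact ⟨h₁, h₂⟩
  · rw [← Scheme.IdealSheafData.comap_comp]
    have hcomp : ((pullbackSpecIso A C A').inv ≫ P) ≫ pullback.snd b g ≫ g =
        Spec.map (CommRingCat.ofHom (algebraMap A (C ⊗[A] A'))) ≫ jU := by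
      rw [← pullback.condition, Category.assoc, pullback.lift_fst_assoc, Category.assoc, hc,
        pullbackSpecIso_inv_fst_assoc, ← Category.assoc, ← Spec.map_comp]
      rfl
    rw [hcomp, Scheme.IdealSheafData.comap_comp, hI]
    exact isEffCartier_centre_comap I _ t ht hIt

/-- Base change of a blow-up in a Koszul regular ideal along a map keeping the sequences exact. -/
theorem isBlowUp_pullback {X X' B : Scheme.{u}} (𝓘 : X.IdealSheafData) (g : X' ⟶ X)
    (hloc : ∀ y : X, ∃ (U : X.affineOpens) (n : ℕ) (f : Fin n → Γ(X, U.1)), y ∈ U.1 ∧ IsExact f ∧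
      𝓘.ideal U = Ideal.span (Set.range f) ∧
      ∀ (V : X'.affineOpens) (e : V.1 ≤ g ⁻¹ᵁ U.1), IsExact fun i => g.appLE U.1 V.1 e (f i))
    (b : B ⟶ X) (hb : BlowUp.IsBlowUp b 𝓘) : BlowUp.IsBlowUp (pullback.snd b g) (𝓘.comap g) := by
  refine ⟨?_, fun Z h hh => ?_⟩
  · rw [← Scheme.IdealSheafData.comap_comp]
    have key : ∀ y : (pullback b g : Scheme.{u}), ∃ (W : Scheme.{u}) (m : W ⟶ pullback b g) (_ : IsOpenImmersion m),
        y ∈ Set.range m ∧ BlowUp.IsEffCartierIdeal ((𝓘.comap (pullback.snd b g ≫ g)).comap m) := by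
      intro y
      obtain ⟨U, n, f, hxU, hf, hI, hfV⟩ := hloc (g (pullback.snd b g y))
      obtain ⟨_, ⟨V, hV, rfl⟩, hyV, hVU⟩ := X'.isBasis_affineOpens.exists_subset_of_mem_open
        (a := pullback.snd b g y) (u := ((g ⁻¹ᵁ U.1 : X'.Opens) : Set X')) hxU (g ⁻¹ᵁ U.1).isOpen
      have hb' := BlowUpLib.isBlowUp_of_isPullback (IsPullback.of_hasPullback U.2.fromSpec b) hb
      rw [BlowUpLib.comap_fromSpec] at hb'
      obtain ⟨e, he⟩ := BlowUpLib.exists_iso hb' (BlowUpLib.isBlowUp_local (𝓘.ideal U))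
      have hbU : pullback.fst b g y ∈ b ⁻¹ᵁ U.1 := by
        show b (pullback.fst b g y) ∈ U.1
        rw [← Scheme.Hom.comp_apply, pullback.condition, Scheme.Hom.comp_apply]
        exact hxU
      obtain ⟨p, hp⟩ : pullback.fst b g y ∈ Set.range (pullback.snd U.2.fromSpec b) := by
        rw [IsOpenImmersion.range_pullbackSnd]
        show b (pullback.fst b g y) ∈ Set.range U.2.fromSpec
        rw [U.2.range_fromSpec]
        exact hbU
      obtain ⟨m, σ, a, hσ, ha, ⟨w, hw⟩, hI', hf'⟩ := exists_chart_mem (𝓘.ideal U) f hI hf (e.hom p)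
      letI : Algebra Γ(X, U.1) Γ(X', V) := (g.appLE U.1 V hVU).hom.toAlgebra
      let c := BlowUpLib.chart _ a ≫ e.inv ≫ pullback.snd U.2.fromSpec b
      have hc : c ≫ b = Spec.map (CommRingCat.ofHom (algebraMap Γ(X, U.1)
          (BlowUp.affineAlgebra Γ(X, U.1) (𝓘.ideal U) a))) ≫ U.2.fromSpec := by
        rw [Category.assoc, Category.assoc, ← pullback.condition, ← BlowUpLib.chart_toBase, Category.assoc]
        rw [show pullback.fst U.2.fromSpec b = e.hom ≫ BlowUpLib.toBase (𝓘.ideal U) from he.symm,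
          Category.assoc, e.inv_hom_id_assoc]
      have hg : hV.fromSpec ≫ g = Spec.map (CommRingCat.ofHom (algebraMap Γ(X, U.1) Γ(X', V))) ≫ U.2.fromSpec :=
        (IsAffineOpen.SpecMap_appLE_fromSpec g U.2 hV hVU).symm
      refine exists_piece 𝓘 b g U.2.fromSpec (𝓘.ideal U) (BlowUpLib.comap_fromSpec (C := 𝓘) U) c hc hV.fromSpec hg _ ?_
        (map_eq_span (𝓘.ideal U) a _) y ⟨w, ?_⟩ ?_
      · refine isSMulRegular_baseChange _ _ _ hI' hf' _ ?_
        have e1 : (Fin.cons (a : Γ(X, U.1)) fun k => f (σ k.succ) : Fin (m + 1) → Γ(X, U.1)) = fun k => f (σ k) :=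
          funext fun k => by induction k using Fin.cases <;> simp [ha]
        rw [e1]
        exact isExact_comp_bijective (hfV ⟨V, hV⟩ hVU) σ hσ
      · exact ((congrArg (e.inv ≫ pullback.snd U.2.fromSpec b) hw).trans
          (congrArg (fun k : _ ⟶ B => k p) (e.hom_inv_id_assoc (pullback.snd U.2.fromSpec b)))).trans hp
      · rw [hV.range_fromSpec]
        exact hyV
    choose W m hm hy hcart using key
    haveI := hm
    exact ModPairLib.isEffCartier_of_comap m (fun y => ⟨y, (hy y).choose, (hy y).choose_spec⟩) hcart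
  · rw [← Scheme.IdealSheafData.comap_comp] at hh
    obtain ⟨l, hl, hu⟩ := hb.2 Z (h ≫ g) hh
    refine ⟨pullback.lift l h hl, pullback.lift_snd _ _ _, fun l' hl' => pullback.hom_ext ?_ ?_⟩
    · rw [pullback.lift_fst]
      exact hu (l' ≫ pullback.fst b g) (by dsimp only at *; rw [Category.assoc, pullback.condition, reassoc_of% hl'])
    · rw [pullback.lift_snd]
      exact hl'

end Groth.Agent.BlowLCI
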