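import Groth.Agent.S2894
import Groth.Agent.SyntCM12.CMProps
import Groth.Agent.S9699
import Groth.Agent.CMPointLib.Basic
import Groth.Agent.LC.ExtDim
import Groth.Agent.LC.DepthFlatFibre
import Groth.Agent.AlgSpLib.CartierDepth
import Groth.Agent.BlowUpX.Basic
import Groth.Agent.BlowUpLib.Glue
import Groth.Agent.S18944
import Groth.Prelude.Def_Mor2

/-!
# Blowing up a Cohen–Macaulay scheme in a regular centre gives a Cohen–Macaulay scheme
-/

set_option autoImplicit false
set_option linter.style.haveILetI false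
set_option backward.isDefEq.respectTransparency false
set_option backward.isDefEq.respectTransparency.types false

universe u

open CategoryTheory CategoryTheory.Limits AlgebraicGeometry IsLocalRing RingTheory.Sequence

namespace Groth.Agent.BlowLCI

open Groth.Agent

/-- A Cohen–Macaulay local ring modulo a regular sequence is Cohen–Macaulay. -/
theorem isCMLocal_quot_ofList {R : Type u} [CommRing R] [IsLocalRing R] [IsNoetherianRing R]
    [hR : LocCoh.IsCohenMacaulayLocalRing R] {rs : List R} (h : IsWeaklyRegular R rs)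
    (hmem : ∀ r ∈ rs, r ∈ maximalIdeal R) [IsLocalRing (R ⧸ Ideal.ofList rs)] :
    LocCoh.IsCohenMacaulayLocalRing (R ⧸ Ideal.ofList rs) := by
  refine { supportDim_eq_depth := ?_ }
  have h1 := LC.isCM_quot_ofList (M := R) hR.supportDim_eq_depth h hmem
  unfold LocCoh.IsCohenMacaulayModule at h1
  have e : (R ⧸ (Ideal.ofList rs • ⊤ : Submodule R R)) ≃ₗ[R] R ⧸ Ideal.ofList rs :=
    Submodule.quotEquivOfEq _ _ (by rw [smul_eq_mul, Ideal.mul_top])
  have hmax : (maximalIdeal R).map (Ideal.Quotient.mk (Ideal.ofList rs)) = maximalIdeal (R ⧸ Ideal.ofList rs) :=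
    map_maximalIdeal_of_surjective _ Ideal.Quotient.mk_surjective
  rw [Module.supportDim_eq_of_equiv e, Module.supportDim_quotient_eq_ringKrullDim, LocCoh.depth,
    LC.idealDepth_congr _ e, LC.idealDepth_quot_self_le, hmax] at h1
  rw [Module.supportDim_self_eq_ringKrullDim]
  exact h1

/-- The blow-up of a Cohen–Macaulay scheme in a regularly immersed centre is Cohen–Macaulay. -/
theorem isCM_stalk_blowUp {Y X X' : Scheme.{u}} (i : Y ⟶ X) [IsClosedImmersion i]
    [IsLocallyNoetherian X] (hX : ∀ x : X, LocCoh.IsCohenMacaulayLocalRing (X.presheaf.stalk x))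
    (hi : RegImm.IsRegularImmersion RegImm.Kind.regular i) (b : X' ⟶ X) (hb : BlowUp.IsBlowUp b i.ker) (z : X') :
    LocCoh.IsCohenMacaulayLocalRing (X'.presheaf.stalk z) := by
  haveI : IsLocallyNoetherian Y := LocallyOfFiniteType.isLocallyNoetherian i
  have hi' : Mor2.IsRegularClosedImmersion i := ⟨inferInstance, fun z => by
    obtain ⟨U, hzU, -, rs, hrs, hk⟩ := hi.2 z
    exact ⟨U.1, U.2, hzU, rs, hrs, (i.ker_apply U).trans hk⟩⟩
  haveI : IsProper b := BlowUpLib.isProper_of_isBlowUp (C := i.ker) hb fun U =>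
    haveI : IsNoetherianRing Γ(X, U.1) := IsLocallyNoetherian.component_noetherian U
    IsNoetherian.noetherian _
  haveI : IsLocallyNoetherian X' := LocallyOfFiniteType.isLocallyNoetherian b
  let E := BlowUp.exceptional b i.ker
  by_cases hz : z ∈ (E.support : Set X')
  · rw [← Scheme.IdealSheafData.range_subschemeι] at hz
    obtain ⟨w, rfl⟩ := hz
    have hle : i.ker ≤ (E.subschemeι ≫ b).ker := by
      rw [← Scheme.IdealSheafData.map_ker, Scheme.IdealSheafData.ker_subschemeι]
      exact Scheme.IdealSheafData.le_map_iff_comap_le.mpr le_rfl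
    let g := IsClosedImmersion.lift i (E.subschemeι ≫ b) hle
    have hg : g ≫ i = E.subschemeι ≫ b := IsClosedImmersion.lift_fac _ _ _
    haveI : Smooth g := Groth.Agent.S2894.result i hi' b hb g hg
    have hy : LocCoh.IsCohenMacaulayLocalRing (Y.presheaf.stalk (g w)) := by
      obtain ⟨rs, hrs, hker⟩ := Groth.Agent.S18944.result i hi (g w)
      haveI := hX (i (g w))
      let e := (Ideal.quotEquivOfEq hker.symm).trans
        (RingHom.quotientKerEquivOfSurjective (i.stalkMap_surjective (g w)))
      haveI : IsLocalRing (X.presheaf.stalk (i (g w)) ⧸ Ideal.ofList rs) := e.symm.isLocalRing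
      haveI := isCMLocal_quot_ofList hrs.toIsWeaklyRegular fun r hr =>
        (mem_maximalIdeal r).2 fun hu => by
          have h0 : (i.stalkMap (g w)).hom r = 0 := by
            rw [← RingHom.mem_ker, hker]; exact Ideal.subset_span hr
          exact not_isUnit_zero (h0 ▸ hu.map (i.stalkMap (g w)).hom)
      exact LC.Liaison.isCMLocal_of_ringEquiv e
    have hw : LocCoh.IsCohenMacaulayLocalRing (E.subscheme.presheaf.stalk w) :=
      (SyntCM12.isCM_stalk_iff (Groth.Agent.S9699.result g) w).2 hy
    obtain ⟨t, ht, hker⟩ := AlgSpLib.CartierDepth.exists_stalk_generator hb.1 w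
    let e := (Ideal.quotEquivOfEq hker.symm).trans
      (RingHom.quotientKerEquivOfSurjective (E.subschemeι.stalkMap_surjective w))
    haveI : IsLocalRing (X'.presheaf.stalk (E.subschemeι w) ⧸ Ideal.span {t}) := e.symm.isLocalRing
    haveI : LocCoh.IsCohenMacaulayLocalRing (X'.presheaf.stalk (E.subschemeι w) ⧸ Ideal.span {t}) :=
      LC.Liaison.isCMLocal_of_ringEquiv e.symm
    refine CMPointLib.isCMLocal_of_quot (x := t) ((mem_maximalIdeal t).2 fun hu => ?_)
      (isSMulRegular_iff_right_eq_zero_of_smul.mpr fun y hy =>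
        mul_left_mem_nonZeroDivisors_eq_zero_iff ht |>.1 hy)
    have h0 : (E.subschemeι.stalkMap w).hom t = 0 := by
      rw [← RingHom.mem_ker, hker]; exact Ideal.mem_span_singleton_self t
    exact not_isUnit_zero (h0 ▸ hu.map (E.subschemeι.stalkMap w).hom)
  · have hz' : z ∈ b ⁻¹ᵁ i.ker.support.compl := by
      show b z ∉ (i.ker.support : Set X)
      intro h
      exact hz (by rw [Scheme.IdealSheafData.support_comap]; exact h)
    haveI := BlowUpX.isIso_restrict hb
    haveI := hX (b z)
    haveI : IsIso (b.stalkMap z) :=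
      ((MorphismProperty.isomorphisms _).arrow_mk_iso_iff
        (morphismRestrictStalkMap b i.ker.support.compl ⟨z, hz'⟩)).1 inferInstance
    exact LC.Liaison.isCMLocal_of_ringEquiv (asIso (b.stalkMap z)).commRingCatIsoToRingEquiv

end Groth.Agent.BlowLCI
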