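import Groth.Agent.KRegLib.WeakReg
import Groth.Agent.KRegLib.Pres
import Groth.Prelude.Def_BlowUp2

/-!
# The charts of the blow-up in a Koszul regular ideal are local complete intersections

For a Koszul regular sequence `a, b_1, …, b_n` the elements `a T_i - b_i` form a Koszul regular
sequence in `A[T_1, …, T_n]` and generate the kernel of `A[T] → A[I/a]`.
-/

set_option autoImplicit false
set_option linter.style.haveILetI false
set_option linter.unusedSimpArgs false
set_option backward.isDefEq.respectTransparency false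

universe u

open Groth.Agent.WiebeLib

namespace Groth.Agent.BlowLCI

variable {R : Type u} [CommRing R] {n : ℕ}

/-- Multiplication by the extra element is injective on the homology of the shorter sequence. -/
theorem exists_d_of_smul_eq {a : R} {g : Fin n → R} (hex : IsExact (Fin.cons a g : Fin (n + 1) → R)) :
    (∀ (c : Ko R n 0) (y : Ko R n 1), a • c = d n g 0 y → ∃ w, d n g 0 w = c) ∧
    ∀ (k : ℕ) (z : Ko R n (k + 1)) (y : Ko R n (k + 1 + 1)), d n g k z = 0 → a • z = d n g (k + 1) y →
      ∃ w, d n g (k + 1) w = z := by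
  have hg : (fun i : Fin n => (Fin.cons a g : Fin (n + 1) → R) i.succ) = g := funext fun i => Fin.cons_succ _ _ _
  constructor
  · intro c y hy
    let X : Ko R (n + 1) 1 := Sum.elim y (-c)
    have h1 : fstL n 0 X = y := rfl
    have h2 : sndL n 0 X = -c := rfl
    have hX : d (n + 1) (Fin.cons a g : Fin (n + 1) → R) 0 X = 0 := by
      show (d n (fun i : Fin n => (Fin.cons a g : Fin (n + 1) → R) i.succ) 0 (fstL n 0 X) +
        (Fin.cons a g : Fin (n + 1) → R) 0 • sndL n 0 X : Ko R n 0) = 0
      rw [hg, h1, h2, Fin.cons_zero, smul_neg, hy, add_neg_cancel]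
    obtain ⟨W, hW⟩ := hex 0 X hX
    refine ⟨sndL n 1 W, ?_⟩
    have h3 := congrArg (sndL n 0) hW
    rw [h2] at h3
    rw [show sndL n 0 (d (n + 1) (Fin.cons a g : Fin (n + 1) → R) 1 W) =
        -d n (fun i : Fin n => (Fin.cons a g : Fin (n + 1) → R) i.succ) 0 (sndL n 1 W) from rfl, hg, neg_inj] at h3
    exact h3
  · intro k z y hz hy
    let X : Ko R (n + 1) (k + 1 + 1) := Sum.elim y (-z)
    have h1 : fstL n (k + 1) X = y := rfl
    have h2 : sndL n (k + 1) X = -z := rfl
    have hX : d (n + 1) (Fin.cons a g : Fin (n + 1) → R) (k + 1) X = 0 := by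
      refine ko_ext ?_ ?_
      · show d n (fun i : Fin n => (Fin.cons a g : Fin (n + 1) → R) i.succ) (k + 1) (fstL n (k + 1) X) +
          (Fin.cons a g : Fin (n + 1) → R) 0 • sndL n (k + 1) X = fstL n k 0
        rw [hg, h1, h2, Fin.cons_zero, smul_neg, hy, add_neg_cancel, map_zero]
      · show -d n (fun i : Fin n => (Fin.cons a g : Fin (n + 1) → R) i.succ) k (sndL n (k + 1) X) = sndL n k 0
        rw [hg, h2, map_neg, hz, neg_zero, neg_zero, map_zero]
    obtain ⟨W, hW⟩ := hex (k + 1) X hX
    refine ⟨sndL n (k + 2) W, ?_⟩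
    have h3 := congrArg (sndL n (k + 1)) hW
    rw [h2] at h3
    rw [show sndL n (k + 1) (d (n + 1) (Fin.cons a g : Fin (n + 1) → R) (k + 1 + 1) W) =
        -d n (fun i : Fin n => (Fin.cons a g : Fin (n + 1) → R) i.succ) (k + 1) (sndL n (k + 2) W) from rfl, hg,
      neg_inj] at h3
    exact h3

/-- Exactness can be checked after inverting an element completing the sequence to an exact one. -/
theorem isExact_of_away {a : R} {g : Fin n → R} (hex : IsExact (Fin.cons a g : Fin (n + 1) → R))
    (S : Type u) [CommRing S] [Algebra R S] [IsLocalization.Away a S]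
    (hS : IsExact fun i => algebraMap R S (g i)) : IsExact g := by
  classical
  intro k z hz
  have hz' : d n (fun i => algebraMap R S (g i)) k (fun i => algebraMap R S (z i)) = 0 := by
    rw [d_map, hz]
    funext i
    exact map_zero _
  obtain ⟨w, hw⟩ := hS k _ hz'
  obtain ⟨⟨s, m, rfl⟩, hs⟩ := IsLocalization.exist_integer_multiples_of_finite (Submonoid.powers a) w
  choose y hy using hs
  have h1 : ∀ i, algebraMap R S (d n g (k + 1) y i) = algebraMap R S (a ^ m * z i) := fun i => by
    have h2 := congrFun (d_map (algebraMap R S) n g (k + 1) y) i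
    rw [← h2, show (fun i => algebraMap R S (y i)) = algebraMap R S (a ^ m) • w from funext fun i => by
      rw [Pi.smul_apply, smul_eq_mul, hy i]; exact Algebra.smul_def _ _, map_smul, hw, Pi.smul_apply, smul_eq_mul,
      map_mul]
  choose e he using fun i => (IsLocalization.eq_iff_exists (Submonoid.powers a) S).1 (h1 i)
  choose p hp using fun i => (e i).2
  let N := Finset.univ.sup p
  have key : d n g (k + 1) (a ^ N • y) = a ^ (N + m) • z := funext fun i => by
    rw [map_smul, Pi.smul_apply, Pi.smul_apply, smul_eq_mul, smul_eq_mul]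
    obtain ⟨q, hq⟩ := Nat.exists_eq_add_of_le (Finset.le_sup (f := p) (Finset.mem_univ i))
    have h3 : a ^ p i * d n g (k + 1) y i = a ^ p i * (a ^ m * z i) := by
      have h4 := he i
      rw [← hp i] at h4
      exact h4
    rw [show N = p i + q from hq, pow_add a (p i + q) m, pow_add, mul_right_comm, h3]
    ring
  have step : ∀ (M : ℕ) (z : Ko R n (k + 1)), d n g k z = 0 → (∃ y, d n g (k + 1) y = a ^ M • z) →
      ∃ w, d n g (k + 1) w = z := by
    intro M
    induction M with
    | zero => rintro z - ⟨y, hy⟩; exact ⟨y, by rw [hy, pow_zero, one_smul]⟩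
    | succ M ih =>
      rintro z hz ⟨y, hy⟩
      refine ih z hz ((exists_d_of_smul_eq hex).2 k _ y (by rw [map_smul, hz, smul_zero]) ?_)
      rw [hy, smul_smul, ← pow_succ']
  exact step _ z hz ⟨_, key⟩

/-- Degree zero boundaries lie in the ideal of the sequence. -/
theorem d_zero_mem : ∀ (n : ℕ) (g : Fin n → R) (y : Ko R n 1) (i : Idx n 0), d n g 0 y i ∈ Ideal.span (Set.range g)
  | 0, g, y, i => Ideal.zero_mem _
  | n + 1, g, y, i => by
    show d n (fun l => g l.succ) 0 (fstL n 0 y) i + g 0 * sndL n 0 y i ∈ _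
    exact add_mem (Ideal.span_mono (Set.range_comp_subset_range Fin.succ g)
      (d_zero_mem n _ (fstL n 0 y) i)) (Ideal.mul_mem_right _ _ (Ideal.subset_span ⟨0, rfl⟩))

instance nonempty_idx_zero : ∀ n : ℕ, Nonempty (Idx n 0)
  | 0 => inferInstanceAs (Nonempty Unit)
  | n + 1 => nonempty_idx_zero n

/-- An element completing an exact sequence is regular modulo the others. -/
theorem mem_of_pow_mul_mem {a : R} {g : Fin n → R} (hex : IsExact (Fin.cons a g : Fin (n + 1) → R)) :
    ∀ (M : ℕ) (x : R), a ^ M * x ∈ Ideal.span (Set.range g) → x ∈ Ideal.span (Set.range g) := by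
  have h1 : ∀ x : R, a * x ∈ Ideal.span (Set.range g) → x ∈ Ideal.span (Set.range g) := fun x hx => by
    obtain ⟨v, hv⟩ := Ideal.mem_span_range_iff_exists_fun.1 hx
    let c : Ko R n 0 := fun _ => x
    obtain ⟨w, hw⟩ := (exists_d_of_smul_eq hex).1 c (eta n v 0 fun _ => 1) (by
      rw [d_eta_zero, hv]
      funext i
      simp [c])
    obtain ⟨i⟩ := nonempty_idx_zero n
    have := d_zero_mem n g w i
    rwa [hw] at this
  intro M
  induction M with
  | zero => intro x hx; simpa using hx
  | succ M ih => intro x hx; exact ih x (h1 _ (by rwa [← mul_assoc, ← pow_succ']))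

/-- Exactness is invariant under isomorphisms. -/
theorem isExact_map_bijective {S : Type u} [CommRing S] (φ : R →+* S) (hφ : Function.Bijective φ) {f : Fin n → R}
    (hf : IsExact f) : IsExact fun i => φ (f i) := by
  letI := φ.toAlgebra
  haveI : Module.Flat R S := RingHom.Flat.of_bijective (f := φ) hφ
  exact isExact_map hf

/-- Exactness of a sequence reindexed by a bijection. -/
theorem isExact_comp_bijective {m : ℕ} {f : Fin n → R} (hf : IsExact f) (σ : Fin m → Fin n)
    (hσ : Function.Bijective σ) : IsExact fun k => f (σ k) := by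
  obtain rfl : m = n := by simpa using Fintype.card_of_bijective hσ
  exact KRegLib.isExact_comp_equiv hf (Equiv.ofBijective σ hσ)

variable {A : Type u} [CommRing A]

/-- The equations of the chart. -/
noncomputable def eqn (a : A) (b : Fin n → A) (i : Fin n) : MvPolynomial (Fin n) A :=
  MvPolynomial.C a * MvPolynomial.X i - MvPolynomial.C (b i)

theorem isExact_cons_eqn (a : A) (b : Fin n → A) (hex : IsExact (Fin.cons a b : Fin (n + 1) → A)) :
    IsExact (Fin.cons (MvPolynomial.C a) (eqn a b) : Fin (n + 1) → MvPolynomial (Fin n) A) := by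
  classical
  let P := MvPolynomial (Fin n) A
  have hP : IsExact (Fin.cons (MvPolynomial.C a) (fun i => MvPolynomial.C (b i)) : Fin (n + 1) → P) := by
    have e : (Fin.cons (MvPolynomial.C a) (fun i => MvPolynomial.C (b i)) : Fin (n + 1) → P) =
        fun i => algebraMap A P ((Fin.cons a b : Fin (n + 1) → A) i) := funext fun i => by
      induction i using Fin.cases <;> simp [P, MvPolynomial.algebraMap_eq]
    rw [e]
    exact isExact_map hex
  let C : Matrix (Fin (n + 1)) (Fin (n + 1)) P := Matrix.of
    (Fin.cons (Fin.cons 1 fun _ => 0) fun i => Fin.cons (MvPolynomial.X i) fun j => if i = j then -1 else 0)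
  have h00 : C 0 0 = 1 := rfl
  have h0j : ∀ j, C 0 (Fin.succ j) = 0 := fun j => rfl
  have hi0 : ∀ i, C (Fin.succ i) 0 = MvPolynomial.X i := fun i => rfl
  have hij : ∀ i j, C (Fin.succ i) (Fin.succ j) = if i = j then -1 else 0 := fun i j => rfl
  refine KRegLib.isExact_of_isUnit_det hP C (Matrix.isUnit_det_of_right_inverse (B := C) ?_) fun i => ?_
  · ext i j : 2
    rw [Matrix.mul_apply, Fin.sum_univ_succ]
    induction i using Fin.cases with
    | zero =>
      simp only [h00, h0j, zero_mul, Finset.sum_const_zero, add_zero, one_mul]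
      induction j using Fin.cases with
      | zero => rw [h00, Matrix.one_apply_eq]
      | succ j => rw [h0j, Matrix.one_apply_ne (Fin.succ_ne_zero j).symm]
    | succ i =>
      simp only [hi0, hij, ite_mul, zero_mul, Finset.sum_ite_eq, Finset.mem_univ, if_true, neg_one_mul]
      induction j using Fin.cases with
      | zero => rw [h00, hi0, Matrix.one_apply_ne (Fin.succ_ne_zero i), mul_one, add_neg_cancel]
      | succ j =>
        rw [h0j, hij, mul_zero, zero_add]
        by_cases h : i = j
        · subst h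
          rw [if_pos rfl, Matrix.one_apply_eq, neg_neg]
        · rw [if_neg h, neg_zero, Matrix.one_apply_ne fun e => h (Fin.succ_inj.1 e)]
  · rw [Fin.sum_univ_succ]
    induction i using Fin.cases with
    | zero => simp [h00, h0j]
    | succ i =>
      simp only [hi0, hij, Fin.cons_zero, Fin.cons_succ, ite_mul, zero_mul, Finset.sum_ite_eq,
        Finset.mem_univ, if_true, eqn]
      ring

theorem eqn_props (a : A) (b : Fin n → A) (hex : IsExact (Fin.cons a b : Fin (n + 1) → A)) :
    IsExact (eqn a b) ∧
    ∀ x, MvPolynomial.aeval (fun i => IsLocalization.mk' (Localization.Away a) (b i)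
      (⟨a, Submonoid.mem_powers a⟩ : Submonoid.powers a)) x = 0 → x ∈ Ideal.span (Set.range (eqn a b)) := by
  classical
  let P := MvPolynomial (Fin n) A
  let L := Localization.Away a
  let P' := MvPolynomial (Fin n) L
  have hcons : IsExact (Fin.cons (MvPolynomial.C a) (eqn a b) : Fin (n + 1) → P) := isExact_cons_eqn a b hex
  -- the automorphism of the polynomial ring over the localisation
  letI : Algebra P P' := (MvPolynomial.map (algebraMap A L)).toAlgebra
  haveI : IsLocalization ((Submonoid.powers a).map (MvPolynomial.C (σ := Fin n))) P' :=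
    MvPolynomial.isLocalization (Submonoid.powers a) L
  haveI : IsLocalization.Away (MvPolynomial.C a : P) P' := by
    have e : (Submonoid.powers a).map (MvPolynomial.C (σ := Fin n)) = Submonoid.powers (MvPolynomial.C a : P) :=
      Submonoid.map_powers _ _
    show IsLocalization (Submonoid.powers (MvPolynomial.C a : P)) P'
    rw [← e]; infer_instance
  let u : L := algebraMap A L a
  have hu : IsUnit u := IsLocalization.Away.algebraMap_isUnit a
  let β : Fin n → L := fun i => algebraMap A L (b i)
  let σ : P' →ₐ[L] P' := MvPolynomial.aeval fun i => MvPolynomial.C u * MvPolynomial.X i - MvPolynomial.C (β i)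
  let τ : P' →ₐ[L] P' := MvPolynomial.aeval fun i =>
    MvPolynomial.C (↑hu.unit⁻¹ : L) * (MvPolynomial.X i + MvPolynomial.C (β i))
  have huv : (↑hu.unit⁻¹ : L) * u = 1 := hu.val_inv_mul
  have hC : ∀ (φ : P' →ₐ[L] P') (r : L), φ (MvPolynomial.C r) = MvPolynomial.C r := fun φ r => φ.commutes r
  have hσX : ∀ i, σ (MvPolynomial.X i) = MvPolynomial.C u * MvPolynomial.X i - MvPolynomial.C (β i) := fun i =>
    MvPolynomial.aeval_X _ i
  have hτX : ∀ i, τ (MvPolynomial.X i) = MvPolynomial.C (↑hu.unit⁻¹ : L) * (MvPolynomial.X i + MvPolynomial.C (β i)) :=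
    fun i => MvPolynomial.aeval_X _ i
  have hone : MvPolynomial.C (↑hu.unit⁻¹ : L) * MvPolynomial.C u = (1 : P') := by rw [← map_mul, huv, map_one]
  have hστ : σ.comp τ = AlgHom.id L P' := MvPolynomial.algHom_ext fun i => by
    rw [AlgHom.comp_apply, hτX, map_mul, map_add, hC, hC, hσX, sub_add_cancel, ← mul_assoc, hone, one_mul]
    rfl
  have hτσ : τ.comp σ = AlgHom.id L P' := MvPolynomial.algHom_ext fun i => by
    rw [AlgHom.comp_apply, hσX, map_sub, map_mul, hC, hC, hτX, ← mul_assoc, mul_comm (MvPolynomial.C u), hone,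
      one_mul, add_sub_cancel_right]
    rfl
  have hσb : Function.Bijective σ :=
    Function.bijective_iff_has_inverse.2 ⟨τ, fun x => congr($hτσ x), fun x => congr($hστ x)⟩
  have hg' : ∀ i, algebraMap P P' (eqn a b i) = σ (MvPolynomial.X i) := fun i => by
    show MvPolynomial.map (algebraMap A L) (eqn a b i) = _
    rw [hσX]
    simp [eqn, u, β]
  have hexact : IsExact fun i => algebraMap P P' (eqn a b i) := by
    have := isExact_map_bijective σ.toRingHom hσb (KRegLib.isExact_X (R := L) n)
    rw [show (fun i => algebraMap P P' (eqn a b i)) = fun i => σ.toRingHom (MvPolynomial.X i) from funext hg']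
    exact this
  refine ⟨isExact_of_away hcons P' hexact, fun x hx => ?_⟩
  let v : Fin n → L := fun i => IsLocalization.mk' L (b i) (⟨a, Submonoid.mem_powers a⟩ : Submonoid.powers a)
  have hev : (MvPolynomial.aeval (R := L) v).toRingHom.comp σ.toRingHom =
      (MvPolynomial.constantCoeff : P' →+* L) := MvPolynomial.ringHom_ext (fun r => by
    show MvPolynomial.aeval (R := L) v (σ (MvPolynomial.C r)) = _
    rw [hC, MvPolynomial.aeval_C, MvPolynomial.constantCoeff_C]
    rfl) fun i => by
    show MvPolynomial.aeval (R := L) v (σ (MvPolynomial.X i)) = _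
    rw [hσX, map_sub, map_mul, MvPolynomial.aeval_C, MvPolynomial.aeval_C, MvPolynomial.aeval_X,
      MvPolynomial.constantCoeff_X]
    show u * v i - β i = 0
    rw [sub_eq_zero]
    exact IsLocalization.mk'_spec' L (b i) (⟨a, Submonoid.mem_powers a⟩ : Submonoid.powers a)
  have hx' : algebraMap P P' x ∈ (Ideal.span (Set.range (eqn a b))).map (algebraMap P P') := by
    have h0 : MvPolynomial.aeval (R := L) v (MvPolynomial.map (algebraMap A L) x) = 0 := by
      rw [MvPolynomial.aeval_map_algebraMap]; exact hx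
    obtain ⟨y, hy⟩ := hσb.2 (MvPolynomial.map (algebraMap A L) x)
    rw [← hy] at h0
    have h1 : y ∈ RingHom.ker (MvPolynomial.constantCoeff : P' →+* L) := by
      rw [RingHom.mem_ker, ← hev]; exact h0
    rw [KRegLib.ker_constantCoeff] at h1
    have h2 := Ideal.mem_map_of_mem σ.toRingHom h1
    rw [Ideal.map_span, ← Set.range_comp] at h2
    rw [Ideal.map_span, ← Set.range_comp, show algebraMap P P' x = σ y from hy.symm,
      show (algebraMap P P') ∘ eqn a b = σ.toRingHom ∘ MvPolynomial.X from funext hg']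
    exact h2
  obtain ⟨m, ⟨M, hM⟩, hm⟩ :=
    (IsLocalization.algebraMap_mem_map_algebraMap_iff (Submonoid.powers (MvPolynomial.C a : P)) P' _ _).1 hx'
  exact mem_of_pow_mul_mem hcons M x (by rw [show (MvPolynomial.C a : P) ^ M = m from hM]; exact hm)

theorem mk'_mem_range {L : Type u} [CommRing L] [Algebra A L] {a : A} [IsLocalization.Away a L] (b : Fin n → A)
    (x : A) (hx : x ∈ Ideal.span (Set.range (Fin.cons a b : Fin (n + 1) → A))) :
    IsLocalization.mk' L x (⟨a, Submonoid.mem_powers a⟩ : Submonoid.powers a) ∈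
      (MvPolynomial.aeval (R := A) fun i : Fin n =>
        IsLocalization.mk' L (b i) (⟨a, Submonoid.mem_powers a⟩ : Submonoid.powers a)).range := by
  obtain ⟨c, rfl⟩ := Ideal.mem_span_range_iff_exists_fun.1 hx
  refine ⟨MvPolynomial.C (c 0) + ∑ i, MvPolynomial.C (c i.succ) * MvPolynomial.X i, ?_⟩
  rw [eq_comm, IsLocalization.mk'_eq_iff_eq_mul]
  show algebraMap A L _ = MvPolynomial.aeval _ _ * algebraMap A L a
  simp only [map_add, map_sum, map_mul, MvPolynomial.aeval_C, MvPolynomial.aeval_X, Fin.sum_univ_succ,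
    Fin.cons_zero, Fin.cons_succ, add_mul, Finset.sum_mul]
  refine congrArg _ (Finset.sum_congr rfl fun i _ => ?_)
  rw [mul_assoc]
  exact congrArg (_ * ·) (IsLocalization.mk'_spec L (b i) (⟨a, Submonoid.mem_powers a⟩ : Submonoid.powers a)).symm

/-- The presentation of the chart of a Koszul regular sequence. -/
theorem exists_presentation (I : Ideal A) (a : A) (b : Fin n → A)
    (hI : I = Ideal.span (Set.range (Fin.cons a b : Fin (n + 1) → A)))
    (hex : IsExact (Fin.cons a b : Fin (n + 1) → A)) :
    IsExact (eqn a b) ∧ ∃ ψ : MvPolynomial (Fin n) A →ₐ[A] BlowUp.affineAlgebra A I a,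
      Function.Surjective ψ ∧ RingHom.ker ψ.toRingHom = Ideal.span (Set.range (eqn a b)) := by
  let v : Fin n → Localization.Away a := fun i =>
    IsLocalization.mk' _ (b i) (⟨a, Submonoid.mem_powers a⟩ : Submonoid.powers a)
  have hv : ∀ i, v i ∈ BlowUp.affineAlgebra A I a := fun i =>
    Algebra.subset_adjoin ⟨b i, hI ▸ Ideal.subset_span ⟨i.succ, Fin.cons_succ _ _ _⟩, rfl⟩
  let ψ : MvPolynomial (Fin n) A →ₐ[A] BlowUp.affineAlgebra A I a :=
    MvPolynomial.aeval fun i => (⟨v i, hv i⟩ : BlowUp.affineAlgebra A I a)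
  have hψ : (BlowUp.affineAlgebra A I a).val.comp ψ = MvPolynomial.aeval v :=
    MvPolynomial.algHom_ext fun i => by simp [ψ]
  have hsurj : Function.Surjective ψ := by
    have hle : BlowUp.affineAlgebra A I a ≤ (MvPolynomial.aeval (R := A) v).range := by
      refine Algebra.adjoin_le ?_
      rintro _ ⟨x, hx, rfl⟩
      rw [hI] at hx
      exact mk'_mem_range b x hx
    intro q
    obtain ⟨p, hp⟩ := hle q.2
    exact ⟨p, Subtype.ext (congr($hψ p).trans hp)⟩
  obtain ⟨h1, h2⟩ := eqn_props a b hex
  refine ⟨h1, ψ, hsurj, le_antisymm (fun x hx => h2 x ?_) (Ideal.span_le.2 ?_)⟩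
  · have := congr($hψ x)
    simp only [AlgHom.comp_apply] at this
    rw [← this, show ψ x = 0 from hx, map_zero]
  · rintro _ ⟨i, rfl⟩
    show ψ (eqn a b i) = 0
    refine Subtype.ext ((congr($hψ (eqn a b i))).trans ?_)
    simp [eqn, v]

/-- The chart of a Koszul regular sequence is a local complete intersection. -/
theorem isLCI_affineAlgebra (I : Ideal A) (a : A) (b : Fin n → A)
    (hI : I = Ideal.span (Set.range (Fin.cons a b : Fin (n + 1) → A)))
    (hex : IsExact (Fin.cons a b : Fin (n + 1) → A)) : LCI.IsLCI A (BlowUp.affineAlgebra A I a) := by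
  obtain ⟨h1, ψ, hsurj, hker⟩ := exists_presentation I a b hI hex
  haveI : Algebra.Smooth A (MvPolynomial (Fin n) A) := ⟨inferInstance, inferInstance⟩
  refine KRegLib.isLCI_of_kReg ψ hsurj fun 𝔮 _ => ?_
  haveI : IsLocalization.Away (1 : MvPolynomial (Fin n) A) (MvPolynomial (Fin n) A) :=
    IsLocalization.away_of_isUnit_of_bijective _ isUnit_one Function.bijective_id
  refine KRegLib.KReg.of_on 1 (fun h => ‹𝔮.IsPrime›.ne_top ((Ideal.eq_top_iff_one _).2 (by
    simpa using h))) (MvPolynomial (Fin n) A) ⟨n, eqn a b, h1, ?_⟩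
  rw [Algebra.algebraMap_self, Ideal.map_id]
  exact hker

open TensorProduct in
/-- Base change of a polynomial ring. -/
theorem exists_tensorEquiv (A' : Type u) [CommRing A'] [Algebra A A'] :
    ∃ e : MvPolynomial (Fin n) A ⊗[A] A' ≃+* MvPolynomial (Fin n) A',
      ∀ p, e (p ⊗ₜ 1) = MvPolynomial.map (algebraMap A A') p :=
  ⟨(Algebra.TensorProduct.comm A (MvPolynomial (Fin n) A) A').toRingEquiv.trans
      (MvPolynomial.algebraTensorAlgEquiv A A').toRingEquiv, fun p => by
    show MvPolynomial.algebraTensorAlgEquiv A A' (1 ⊗ₜ p) = _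
    rw [MvPolynomial.algebraTensorAlgEquiv_tmul, one_smul]⟩

open TensorProduct in
theorem isSMulRegular_tensor {B : Type u} [CommRing B] [Algebra A B] (A' : Type u) [CommRing A'] [Algebra A A']
    (g : Fin n → MvPolynomial (Fin n) A) (ψ : MvPolynomial (Fin n) A →ₐ[A] B) (hsurj : Function.Surjective ψ)
    (hker : RingHom.ker ψ.toRingHom = Ideal.span (Set.range g)) (a : A)
    (hreg : ∀ x, MvPolynomial.C (algebraMap A A' a) * x ∈
        Ideal.span (Set.range fun i => MvPolynomial.map (algebraMap A A') (g i)) →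
      x ∈ Ideal.span (Set.range fun i => MvPolynomial.map (algebraMap A A') (g i))) :
    algebraMap A (B ⊗[A] A') a ∈ nonZeroDivisors (B ⊗[A] A') := by
  obtain ⟨e, he⟩ := exists_tensorEquiv (A := A) (n := n) A'
  let Φ := Algebra.TensorProduct.map ψ (AlgHom.id A A')
  have hΦ : Function.Surjective Φ := TensorProduct.map_surjective hsurj Function.surjective_id
  have hkerΦ : (RingHom.ker Φ.toRingHom).map e.toRingHom =
      Ideal.span (Set.range fun i => MvPolynomial.map (algebraMap A A') (g i)) := by
    have h0 : RingHom.ker Φ.toRingHom = (RingHom.ker ψ.toRingHom).map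
        (Algebra.TensorProduct.includeLeftRingHom : MvPolynomial (Fin n) A →+* MvPolynomial (Fin n) A ⊗[A] A') :=
      Algebra.TensorProduct.rTensor_ker ψ hsurj
    rw [h0, hker, Ideal.map_map, Ideal.map_span, ← Set.range_comp]
    exact congrArg Ideal.span (congrArg Set.range (funext fun i => he (g i)))
  refine mem_nonZeroDivisors_iff_right.2 fun t ht => ?_
  obtain ⟨p, rfl⟩ := hΦ t
  have h1 : p * algebraMap A _ a ∈ RingHom.ker Φ.toRingHom := by
    show Φ _ = 0
    rw [map_mul, AlgHom.commutes]
    exact ht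
  have h2 : e (p * algebraMap A _ a) ∈ Ideal.span (Set.range fun i => MvPolynomial.map (algebraMap A A') (g i)) :=
    hkerΦ ▸ Ideal.mem_map_of_mem e.toRingHom h1
  rw [map_mul, mul_comm, Algebra.TensorProduct.algebraMap_apply, he, MvPolynomial.algebraMap_eq,
    MvPolynomial.map_C] at h2
  have h4 := hreg _ h2
  rw [← hkerΦ] at h4
  obtain ⟨p', hp', hpe⟩ := (Ideal.mem_map_iff_of_surjective _ e.surjective).1 h4
  exact (congrArg Φ (e.injective hpe)).symm.trans hp'

open TensorProduct in
/-- After a base change keeping the sequence exact, the first member stays regular on the chart. -/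
theorem isSMulRegular_baseChange (I : Ideal A) (a : A) (b : Fin n → A)
    (hI : I = Ideal.span (Set.range (Fin.cons a b : Fin (n + 1) → A)))
    (hex : IsExact (Fin.cons a b : Fin (n + 1) → A))
    (A' : Type u) [CommRing A'] [Algebra A A']
    (hex' : IsExact fun i => algebraMap A A' ((Fin.cons a b : Fin (n + 1) → A) i)) :
    algebraMap A (BlowUp.affineAlgebra A I a ⊗[A] A') a ∈ nonZeroDivisors (BlowUp.affineAlgebra A I a ⊗[A] A') := by
  obtain ⟨-, ψ, hsurj, hker⟩ := exists_presentation I a b hI hex
  refine isSMulRegular_tensor A' (eqn a b) ψ hsurj hker a fun x hx => ?_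
  have e1 : (fun i => MvPolynomial.map (algebraMap A A') (eqn a b i)) =
      eqn (algebraMap A A' a) fun i => algebraMap A A' (b i) := funext fun i => by simp [eqn]
  have e2 : (Fin.cons (algebraMap A A' a) fun i => algebraMap A A' (b i) : Fin (n + 1) → A') =
      fun i => algebraMap A A' ((Fin.cons a b : Fin (n + 1) → A) i) :=
    funext fun i => by induction i using Fin.cases <;> simp
  rw [e1] at hx ⊢
  exact mem_of_pow_mul_mem (isExact_cons_eqn _ _ (e2 ▸ hex')) 1 x (by rw [pow_one]; exact hx)

/-- The identity is a local complete intersection. -/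
theorem isLCI_self (A : Type u) [CommRing A] : LCI.IsLCI A A := by
  refine KRegLib.isLCI_of_kReg (AlgHom.id A A) Function.surjective_id fun 𝔮 _ => ?_
  haveI : IsLocalization.Away (1 : A) A :=
    IsLocalization.away_of_isUnit_of_bijective _ isUnit_one Function.bijective_id
  refine KRegLib.KReg.of_on 1 (fun h => ‹𝔮.IsPrime›.ne_top ((Ideal.eq_top_iff_one _).2 (by simpa using h))) A
    ⟨0, Fin.elim0, KRegLib.isExact_zero_elems _, ?_⟩
  rw [Algebra.algebraMap_self, Ideal.map_id]
  ext x
  simp

end Groth.Agent.BlowLCI
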