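import Groth.Agent.BlowLCI.Chart
import Groth.Agent.BlowUpLib.Glue
import Groth.Agent.KRegLib.Mor
import Groth.Prelude.Def_Mor2

/-!
# The blow-up in a regularly immersed subscheme is a local complete intersection morphism
-/

set_option autoImplicit false
set_option linter.style.haveILetI false
set_option backward.isDefEq.respectTransparency false
set_option backward.isDefEq.respectTransparency.types false

universe u

open CategoryTheory CategoryTheory.Limits AlgebraicGeometry

namespace Groth.Agent.BlowLCI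

open Groth.Agent Groth.Agent.WiebeLib

/-- Open immersions are local complete intersection morphisms. -/
theorem isLCI'_of_isOpenImmersion {X Y : Scheme.{u}} (f : X ⟶ Y) [IsOpenImmersion f] : KRegLib.IsLCI' f := by
  haveI : (KRegLib.IsLCI'.{u}).ContainsIdentities :=
    HasRingHomProperty.containsIdentities fun R _ => KRegLib.ringHomIsLCI_algebraMap.2 (isLCI_self R)
  exact IsZariskiLocalAtSource.of_isOpenImmersion f

/-- Every point lies in the chart of a member of the sequence. -/
theorem exists_chart_mem {A : Type u} [CommRing A] (I : Ideal A) {n : ℕ} (f : Fin n → A)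
    (hI : I = Ideal.span (Set.range f)) (hf : IsExact f) (x : BlowUpLib.localBlowUp I) :
    ∃ (m : ℕ) (σ : Fin (m + 1) → Fin n) (a : I), Function.Bijective σ ∧ (a : A) = f (σ 0) ∧
      x ∈ (BlowUpLib.chart I a).opensRange ∧ I = Ideal.span (Set.range (Fin.cons (a : A) fun k => f (σ k.succ) :
        Fin (m + 1) → A)) ∧ IsExact (Fin.cons (a : A) fun k => f (σ k.succ) : Fin (m + 1) → A) := by
  obtain ⟨b, p, rfl⟩ := BlowUpLib.chart_covers I x
  have hfI : ∀ i, f i ∈ I := fun i => hI ▸ Ideal.subset_span ⟨i, rfl⟩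
  obtain ⟨i, hi⟩ : ∃ i, BlowUpLib.frac I ⟨f i, hfI i⟩ b ∉ p.asIdeal := by
    by_contra! hall
    refine p.2.ne_top ((Ideal.eq_top_iff_one _).2 ?_)
    obtain ⟨c, hc⟩ := Ideal.mem_span_range_iff_exists_fun.1 (hI ▸ b.2 : (b : A) ∈ Ideal.span (Set.range f))
    have h1 : (1 : BlowUp.affineAlgebra A I (b : A)) =
        ∑ i, algebraMap A _ (c i) * BlowUpLib.frac I ⟨f i, hfI i⟩ b := by
      refine Subtype.ext ((IsLocalization.Away.algebraMap_isUnit (S := Localization.Away (b : A)) (b : A)).mul_left_inj.1 ?_)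
      have h2 := congrArg (algebraMap A (BlowUp.affineAlgebra A I (b : A))) hc
      simp only [map_sum, map_mul, ← BlowUpLib.frac_mul I ⟨_, hfI _⟩ b, ← mul_assoc, ← Finset.sum_mul] at h2
      rw [OneMemClass.coe_one, one_mul]
      exact (congrArg Subtype.val h2).symm
    rw [h1]
    exact Submodule.sum_mem _ fun i _ => Ideal.mul_mem_left _ _ (hall i)
  obtain ⟨m, rfl⟩ : ∃ m, n = m + 1 := ⟨n - 1, by have := i.2; omega⟩
  have e : (Fin.cons (f i) fun k => f (Equiv.swap 0 i k.succ) : Fin (m + 1) → A) = fun k => f (Equiv.swap 0 i k) :=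
    funext fun k => by induction k using Fin.cases <;> simp [Equiv.swap_apply_left]
  refine ⟨m, Equiv.swap 0 i, ⟨f i, hfI i⟩, (Equiv.swap 0 i).bijective, by simp [Equiv.swap_apply_left],
    BlowUpLib.chart_overlap I ⟨f i, hfI i⟩ b hi, ?_, ?_⟩
  · rw [e, hI]
    exact congrArg Ideal.span ((Equiv.swap 0 i).surjective.range_comp f).symm
  · rw [e]
    exact KRegLib.isExact_comp_equiv hf _

/-- The blow-up of an affine scheme in a Koszul regular ideal is a local complete intersection at every point. -/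
theorem exists_chart_isLCI {A : Type u} [CommRing A] (I : Ideal A) {n : ℕ} (f : Fin n → A)
    (hI : I = Ideal.span (Set.range f)) (hf : IsExact f) (x : BlowUpLib.localBlowUp I) :
    ∃ a : I, x ∈ (BlowUpLib.chart I a).opensRange ∧
      KRegLib.IsLCI' (Spec.map (CommRingCat.ofHom (algebraMap A (BlowUp.affineAlgebra A I (a : A))))) := by
  obtain ⟨m, σ, a, -, -, hxa, hI', hf'⟩ := exists_chart_mem I f hI hf x
  exact ⟨a, hxa, (HasRingHomProperty.Spec_iff (P := KRegLib.IsLCI'.{u})).2
    (KRegLib.ringHomIsLCI_algebraMap.2 (isLCI_affineAlgebra I _ _ hI' hf'))⟩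

/-- Around every point of the base the centre is generated by a Koszul exact sequence. -/
theorem exists_isExact_nhd {Z X : Scheme.{u}} (i : Z ⟶ X) (hi : Mor2.IsRegularClosedImmersion i) (y : X) :
    ∃ (U : X.affineOpens) (n : ℕ) (f : Fin n → Γ(X, U.1)), y ∈ U.1 ∧ IsExact f ∧
      i.ker.ideal U = Ideal.span (Set.range f) := by
  obtain ⟨hci, hloc⟩ := hi
  haveI := hci
  by_cases hy : y ∈ Set.range i
  · obtain ⟨z, rfl⟩ := hy
    obtain ⟨U, hU, hzU, rs, hrs, heq⟩ := hloc z
    refine ⟨⟨U, hU⟩, _, rs.get, hzU, KRegLib.isExact_of_isWeaklyRegular _ ?_, ?_⟩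
    · rw [List.ofFn_get]; exact hrs.toIsWeaklyRegular
    · rw [heq, Ideal.ofList]
      congr 1
      ext r
      simp [List.mem_iff_get]
  · obtain ⟨_, ⟨U, hU, rfl⟩, hyU, hsub⟩ := X.isBasis_affineOpens.exists_subset_of_mem_open hy
      i.isClosedEmbedding.isClosed_range.isOpen_compl
    refine ⟨⟨U, hU⟩, 1, fun _ => 1, hyU, KRegLib.isExact_single (IsSMulRegular.one _), ?_⟩
    rw [Set.range_const, Ideal.span_singleton_one, Scheme.Hom.ker_apply]
    have : i ⁻¹ᵁ U = ⊥ := eq_bot_iff.2 fun z hz => (hsub hz ⟨z, rfl⟩).elim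
    show RingHom.ker (i.app U).hom = ⊤
    haveI : Subsingleton Γ(Z, i ⁻¹ᵁ U) := by
      rw [this]; exact CommRingCat.subsingleton_of_isTerminal Z.sheaf.isTerminalOfEmpty
    exact top_unique fun r _ => Subsingleton.elim _ _

/-- The blow-up in a regularly immersed centre is a local complete intersection morphism. -/
theorem forall_isKoszulAt {Z X X' : Scheme.{u}} (i : Z ⟶ X) (hi : Mor2.IsRegularClosedImmersion i)
    (b : X' ⟶ X) (hb : BlowUp.IsBlowUp b i.ker) (x : X') : Synt.IsKoszulAt b x := by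
  refine (KRegLib.forall_isKoszulAt_iff b).2 ?_ x
  have key : ∀ x : X', ∃ (W : Scheme.{u}) (c : W ⟶ X') (_ : IsOpenImmersion c),
      x ∈ c.opensRange ∧ KRegLib.IsLCI' (c ≫ b) := by
    intro x
    obtain ⟨U, n, f, hxU, hf, hI⟩ := exists_isExact_nhd i hi (b x)
    haveI : Flat U.2.fromSpec := inferInstance
    have hb' := BlowUpLib.isBlowUp_of_isPullback (IsPullback.of_hasPullback U.2.fromSpec b) hb
    rw [BlowUpLib.comap_fromSpec] at hb'
    obtain ⟨e, he⟩ := BlowUpLib.exists_iso hb' (BlowUpLib.isBlowUp_local (i.ker.ideal U))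
    obtain ⟨p, hp⟩ : x ∈ Set.range (pullback.snd U.2.fromSpec b) := by
      rw [IsOpenImmersion.range_pullbackSnd]
      show b x ∈ Set.range U.2.fromSpec
      rw [U.2.range_fromSpec]
      exact hxU
    obtain ⟨a, ⟨w, hw⟩, hlci⟩ := exists_chart_isLCI (i.ker.ideal U) f hI hf (e.hom p)
    refine ⟨_, BlowUpLib.chart _ a ≫ e.inv ≫ pullback.snd U.2.fromSpec b, inferInstance, ⟨w, ?_⟩, ?_⟩
    · exact ((congrArg (e.inv ≫ pullback.snd U.2.fromSpec b) hw).trans
        (congrArg (fun k : _ ⟶ X' => k p) (e.hom_inv_id_assoc (pullback.snd U.2.fromSpec b)))).trans hp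
    · have e2 : (BlowUpLib.chart _ a ≫ e.inv ≫ pullback.snd U.2.fromSpec b) ≫ b =
          Spec.map (CommRingCat.ofHom (algebraMap _ _)) ≫ U.2.fromSpec := by
        rw [Category.assoc, Category.assoc, ← pullback.condition, ← BlowUpLib.chart_toBase, Category.assoc]
        rw [show pullback.fst U.2.fromSpec b = e.hom ≫ BlowUpLib.toBase (i.ker.ideal U) from he.symm,
          Category.assoc, e.inv_hom_id_assoc]
      rw [e2]
      exact MorphismProperty.comp_mem _ _ _ hlci (isLCI'_of_isOpenImmersion _)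
  choose W c hc hx hlci using key
  haveI := hc
  let 𝒰 : X'.OpenCover :=
    { I₀ := X'
      X := W
      f := c
      mem₀ := by
        rw [Scheme.ofArrows_mem_precoverage_iff]
        exact ⟨fun x => ⟨x, hx x⟩, hc⟩ }
  exact IsZariskiLocalAtSource.of_openCover 𝒰 hlci

end Groth.Agent.BlowLCI
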