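import Groth.Agent.S2894
import Groth.Agent.S8855
import Groth.Agent.S4991
import Groth.Agent.RegLoc6.Pd
import Groth.Agent.AlgSpLib.CartierDepth
import Groth.Agent.BlowUpX.Basic
import Groth.Agent.BlowUpLib.Glue
import Groth.Agent.S0560

/-!
# Blowing up a regular scheme in a regular centre gives a regular scheme
-/

set_option autoImplicit false
set_option linter.style.haveILetI false
set_option backward.isDefEq.respectTransparency false
set_option backward.isDefEq.respectTransparency.types false

universe u

open CategoryTheory CategoryTheory.Limits AlgebraicGeometry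

namespace Groth.Agent.BlowLCI

open Groth.Agent

/-- A regular closed subscheme of a regular scheme is regularly immersed. -/
theorem isRegularClosedImmersion_of_regular {Y X : Scheme.{u}} (i : Y ⟶ X) [IsClosedImmersion i]
    [IsLocallyNoetherian X] [IsLocallyNoetherian Y]
    (hX : ∀ x : X, IsRegularLocalRing (X.presheaf.stalk x)) (hY : ∀ y : Y, IsRegularLocalRing (Y.presheaf.stalk y)) :
    Mor2.IsRegularClosedImmersion i := by
  refine ⟨inferInstance, fun z => ?_⟩
  obtain ⟨U, hzU, -, rs, hrs, hk⟩ := (Groth.Agent.S8855.result i hX hY).2 z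
  exact ⟨U.1, U.2, hzU, rs, hrs, (i.ker_apply U).trans hk⟩

/-- The blow-up of a regular scheme in a regular closed subscheme is regular. -/
theorem isRegularLocalRing_stalk_blowUp {Y X X' : Scheme.{u}} (i : Y ⟶ X) [IsClosedImmersion i]
    [IsLocallyNoetherian X] (hX : ∀ x : X, IsRegularLocalRing (X.presheaf.stalk x))
    (hY : ∀ y : Y, IsRegularLocalRing (Y.presheaf.stalk y)) (b : X' ⟶ X) (hb : BlowUp.IsBlowUp b i.ker) (z : X') :
    IsRegularLocalRing (X'.presheaf.stalk z) := by
  haveI : IsLocallyNoetherian Y := LocallyOfFiniteType.isLocallyNoetherian i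
  haveI : IsProper b := BlowUpLib.isProper_of_isBlowUp (C := i.ker) hb fun U =>
    haveI : IsNoetherianRing Γ(X, U.1) := IsLocallyNoetherian.component_noetherian U
    IsNoetherian.noetherian _
  haveI : IsLocallyNoetherian X' := LocallyOfFiniteType.isLocallyNoetherian b
  let E := BlowUp.exceptional b i.ker
  by_cases hz : z ∈ (E.support : Set X')
  · rw [← Scheme.IdealSheafData.range_subschemeι] at hz
    obtain ⟨w, rfl⟩ := hz
    have hle : i.ker ≤ (E.subschemeι ≫ b).ker := by
      rw [← Scheme.IdealSheafData.map_ker, Scheme.IdealSheafData.ker_subschemeι]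
      exact Scheme.IdealSheafData.le_map_iff_comap_le.mpr le_rfl
    let g := IsClosedImmersion.lift i (E.subschemeι ≫ b) hle
    have hg : g ≫ i = E.subschemeι ≫ b := IsClosedImmersion.lift_fac _ _ _
    haveI : Smooth g := Groth.Agent.S2894.result i (isRegularClosedImmersion_of_regular i hX hY) b hb g hg
    have hw : IsRegularLocalRing (E.subscheme.presheaf.stalk w) :=
      (Groth.Agent.S4991.result g w ⟨⊤, trivial, inferInstance⟩).2 (hY _)
    obtain ⟨t, ht, hker⟩ := AlgSpLib.CartierDepth.exists_stalk_generator hb.1 w
    haveI : IsRegularLocalRing (X'.presheaf.stalk (E.subschemeι w) ⧸ Ideal.span {t}) :=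
      IsRegularLocalRing.of_ringEquiv ((Ideal.quotEquivOfEq hker.symm).trans
        (RingHom.quotientKerEquivOfSurjective (E.subschemeι.stalkMap_surjective w))).symm
    refine Groth.Agent.S0560.result _ t ((IsLocalRing.mem_maximalIdeal t).2 fun hu => ?_) ht
    have h0 : (E.subschemeι.stalkMap w).hom t = 0 := by
      rw [← RingHom.mem_ker, hker]; exact Ideal.mem_span_singleton_self t
    exact not_isUnit_zero (h0 ▸ hu.map (E.subschemeι.stalkMap w).hom)
  · have hz' : z ∈ b ⁻¹ᵁ i.ker.support.compl := by
      show b z ∉ (i.ker.support : Set X)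
      intro h
      exact hz (by rw [Scheme.IdealSheafData.support_comap]; exact h)
    haveI := BlowUpX.isIso_restrict hb
    haveI := hX (b z)
    haveI : IsIso (b.stalkMap z) :=
      ((MorphismProperty.isomorphisms _).arrow_mk_iso_iff
        (morphismRestrictStalkMap b i.ker.support.compl ⟨z, hz'⟩)).1 inferInstance
    exact IsRegularLocalRing.of_ringEquiv (asIso (b.stalkMap z)).commRingCatIsoToRingEquiv

end Groth.Agent.BlowLCI
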